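/-
Root elements of `Sp_{2m}(F)` as matrices: transvections, short root elements, and a criterion for a subgroup
to be everything.
-/
import Mathlib
import Cfsg.Agent.Lib.Classical.Symplectic

set_option autoImplicit false

open Matrix

namespace Cfsg.Agent.SpTwoGen

open Cfsg.Agent.ClassicalSp

variable {m : ℕ} {F : Type*} [Field F]

/-- The group. -/
abbrev Sp (m : ℕ) (F : Type*) [Field F] := Matrix.symplecticGroup (Fin m) F

/-- The form. -/
noncomputable abbrev B (x y : Fin m ⊕ Fin m → F) : F := spBilin m F x y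

theorem B_self (x : Fin m ⊕ Fin m → F) : B x x = 0 := spBilin_isAlt x

theorem B_swap (x y : Fin m ⊕ Fin m → F) : B y x = -B x y := AltForm.swap spBilin_isAlt x y

theorem B_comm_zero {x y : Fin m ⊕ Fin m → F} (h : B x y = 0) : B y x = 0 := by rw [B_swap, h, neg_zero]

/-- The action. -/
abbrev act (g : Sp m F) (x : Fin m ⊕ Fin m → F) : Fin m ⊕ Fin m → F := g.1 *ᵥ x

theorem act_mul (g h : Sp m F) (x : Fin m ⊕ Fin m → F) : act (g * h) x = act g (act h x) := by
  rw [act, act, act, mulVec_mulVec]; rfl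

theorem act_one (x : Fin m ⊕ Fin m → F) : act (1 : Sp m F) x = x := one_mulVec x

theorem act_inv (g : Sp m F) (x : Fin m ⊕ Fin m → F) : act g⁻¹ (act g x) = x := by
  rw [← act_mul, inv_mul_cancel, act_one]

theorem B_act (g : Sp m F) (x y : Fin m ⊕ Fin m → F) : B (act g x) (act g y) = B x y := by
  rw [B, B, spBilin_apply, spBilin_apply]
  exact (mem_iff_preserves g.1).1 g.2 x y

theorem ext_act {g h : Sp m F} (e : ∀ x, act g x = act h x) : g = h :=
  Subtype.ext (ext_of_mulVec_single fun i => e (Pi.single i 1))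

/-- Transvection `x ↦ x + c B(x,w) w`. -/
def T (w : Fin m ⊕ Fin m → F) (c : F) : Sp m F := ⟨Cfsg.sympTransvection m w c, sympTransvection_mem w c⟩

theorem act_T (w : Fin m ⊕ Fin m → F) (c : F) (x : Fin m ⊕ Fin m → F) :
    act (T w c) x = x + (c * B x w) • w := by
  rw [act, T, sympTransvection_mulVec, B, spBilin_apply]

theorem T_zero (w : Fin m ⊕ Fin m → F) : T w 0 = 1 :=
  ext_act fun x => by rw [act_T, act_one, zero_mul, zero_smul, add_zero]

theorem T_add (w : Fin m ⊕ Fin m → F) (c d : F) : T w c * T w d = T w (c + d) :=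
  ext_act fun x => by
    rw [act_mul, act_T, act_T, act_T]
    simp only [B, map_add, LinearMap.add_apply, map_smul, LinearMap.smul_apply, smul_eq_mul,
      (spBilin_isAlt (m := m) (F := F) w : spBilin m F w w = 0), mul_zero, add_zero]
    module

theorem T_neg (w : Fin m ⊕ Fin m → F) (c : F) : T w (-c) = (T w c)⁻¹ :=
  eq_inv_of_mul_eq_one_right (by rw [T_add, add_neg_cancel, T_zero])

theorem T_smul (w : Fin m ⊕ Fin m → F) (k c : F) : T (k • w) c = T w (k ^ 2 * c) :=
  ext_act fun x => by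
    rw [act_T, act_T]
    simp only [B, map_smul, smul_eq_mul, smul_smul]
    ring_nf

theorem conj_T (g : Sp m F) (w : Fin m ⊕ Fin m → F) (c : F) : g * T w c * g⁻¹ = T (act g w) c :=
  ext_act fun x => by
    rw [act_mul, act_mul, act_T, act_T]
    have h : B (act g⁻¹ x) w = B x (act g w) := by
      conv_rhs => rw [← B_act g⁻¹, act_inv]
    rw [h]
    simp only [act, mulVec_add, mulVec_smul]
    rw [mulVec_mulVec, show g.1 * (g⁻¹).1 = 1 from congrArg Subtype.val (mul_inv_cancel g), one_mulVec]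

/-- Short root element `x ↦ x + c (B(x,a) b + B(x,b) a)` (for orthogonal `a, b`). -/
def E (a b : Fin m ⊕ Fin m → F) (c : F) : Sp m F := T (a + b) c * T a (-c) * T b (-c)

theorem act_E {a b : Fin m ⊕ Fin m → F} (h : B a b = 0) (c : F) (x : Fin m ⊕ Fin m → F) :
    act (E a b c) x = x + c • (B x a • b + B x b • a) := by
  have h' : B b a = 0 := B_comm_zero h
  rw [E, act_mul, act_mul, act_T, act_T, act_T]
  simp only [B] at h h'
  simp only [B, map_add, LinearMap.add_apply, map_smul, LinearMap.smul_apply, smul_eq_mul,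
    (spBilin_isAlt (m := m) (F := F) a : spBilin m F a a = 0),
    (spBilin_isAlt (m := m) (F := F) b : spBilin m F b b = 0), h, h', mul_zero, add_zero, zero_add, smul_smul]
  module

theorem conj_E (g : Sp m F) (a b : Fin m ⊕ Fin m → F) (c : F) :
    g * E a b c * g⁻¹ = E (act g a) (act g b) c := by
  rw [E, E, show g * (T (a + b) c * T a (-c) * T b (-c)) * g⁻¹ =
    (g * T (a + b) c * g⁻¹) * (g * T a (-c) * g⁻¹) * (g * T b (-c) * g⁻¹) by group,
    conj_T, conj_T, conj_T]
  simp only [act, mulVec_add]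

theorem E_add {a b : Fin m ⊕ Fin m → F} (h : B a b = 0) (c d : F) : E a b c * E a b d = E a b (c + d) :=
  ext_act fun x => by
    have h' : B b a = 0 := B_comm_zero h
    rw [act_mul, act_E h, act_E h, act_E h]
    simp only [B] at h h'
    simp only [B, map_add, LinearMap.add_apply, map_smul, LinearMap.smul_apply, smul_eq_mul,
      (spBilin_isAlt (m := m) (F := F) a : spBilin m F a a = 0),
      (spBilin_isAlt (m := m) (F := F) b : spBilin m F b b = 0), h, h', mul_zero, add_zero, zero_add]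
    module

theorem E_zero {a b : Fin m ⊕ Fin m → F} (h : B a b = 0) : E a b 0 = 1 :=
  ext_act fun x => by rw [act_E h, act_one, zero_smul, add_zero]

theorem E_neg {a b : Fin m ⊕ Fin m → F} (h : B a b = 0) (c : F) : E a b (-c) = (E a b c)⁻¹ :=
  eq_inv_of_mul_eq_one_right (by rw [E_add h, add_neg_cancel, E_zero h])

theorem E_comm {a b : Fin m ⊕ Fin m → F} (h : B a b = 0) (c : F) : E b a c = E a b c :=
  ext_act fun x => by rw [act_E h, act_E (B_comm_zero h), add_comm (B x b • a)]

theorem E_smul {a b : Fin m ⊕ Fin m → F} (h : B a b = 0) (k l c : F) :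
    E (k • a) (l • b) c = E a b (k * l * c) :=
  ext_act fun x => by
    have h2 : B (k • a) (l • b) = 0 := by
      simp only [B, map_smul, LinearMap.smul_apply, smul_eq_mul] at h ⊢
      rw [h, mul_zero, mul_zero]
    rw [act_E h, act_E h2]
    simp only [B, map_smul, smul_eq_mul]
    module

theorem E_add_right {a b b' : Fin m ⊕ Fin m → F} (h : B a b = 0) (h' : B a b' = 0) (hb : B b b' = 0) (c : F) :
    E a (b + b') c = E a b c * E a b' c :=
  ext_act fun x => by
    have h2 : B a (b + b') = 0 := by simp only [B, map_add] at *; rw [h, h', add_zero]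
    have hba' : B a b' = 0 := h'
    have hb' : B b' b = 0 := B_comm_zero hb
    rw [act_mul, act_E h2, act_E h', act_E h]
    simp only [B] at h hba' hb' hb
    simp only [B, map_add, LinearMap.add_apply, map_smul, LinearMap.smul_apply, smul_eq_mul,
      (spBilin_isAlt (m := m) (F := F) a : spBilin m F a a = 0), h, hb', B_comm_zero (m := m) h',
      mul_zero, add_zero, zero_add]
    module

theorem T_add_smul {p q : Fin m ⊕ Fin m → F} (h : B p q = 0) (k c : F) :
    T (p + k • q) c = T p c * T q (k ^ 2 * c) * E p q (k * c) :=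
  ext_act fun x => by
    have h' : B q p = 0 := B_comm_zero h
    rw [act_mul, act_mul, act_E h, act_T, act_T, act_T]
    simp only [B] at h h'
    simp only [B, map_add, LinearMap.add_apply, map_smul, LinearMap.smul_apply, smul_eq_mul,
      (spBilin_isAlt (m := m) (F := F) p : spBilin m F p p = 0),
      (spBilin_isAlt (m := m) (F := F) q : spBilin m F q q = 0), h, h', mul_zero, add_zero, zero_add, smul_smul]
    module

/-! ### The basis indexed antiperiodically by `ℤ` -/

/-- `e_0, …, e_{m-1}, f_0, …, f_{m-1}`, zero elsewhere. -/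
def bas (r : ℤ) : Fin m ⊕ Fin m → F :=
  Sum.elim (fun i => if r = (i : ℕ) then 1 else 0) (fun i => if r = m + (i : ℕ) then 1 else 0)

/-- The antiperiodic extension. -/
def vv (k : ℤ) : Fin m ⊕ Fin m → F := ((-1 : F) ^ (k / (2 * m : ℤ))) • bas (k % (2 * m : ℤ))

theorem vv_small {k : ℤ} (h0 : 0 ≤ k) (h1 : k < 2 * m) : (vv k : Fin m ⊕ Fin m → F) = bas k := by
  rw [vv, Int.ediv_eq_zero_of_lt h0 h1, Int.emod_eq_of_lt h0 h1, zpow_zero, one_smul]

theorem vv_add_period (k : ℤ) (hm : 0 < m) : (vv (k + 2 * m) : Fin m ⊕ Fin m → F) = -vv k := by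
  rw [vv, vv, Int.add_ediv_of_dvd_right dvd_rfl, Int.ediv_self (by omega : (2 * m : ℤ) ≠ 0), Int.add_emod_right,
    zpow_add₀ (neg_ne_zero.2 one_ne_zero), zpow_one, mul_neg_one, neg_smul]

theorem vv_sub_period (k : ℤ) (hm : 0 < m) : (vv (k - 2 * m) : Fin m ⊕ Fin m → F) = -vv k := by
  have h := vv_add_period (F := F) (k - 2 * m) hm
  rw [sub_add_cancel] at h
  rw [h, neg_neg]

theorem single_eq_vv (s : Fin m ⊕ Fin m) : (Pi.single s 1 : Fin m ⊕ Fin m → F) =
    vv (Sum.elim (fun i : Fin m => ((i : ℕ) : ℤ)) (fun i : Fin m => (m : ℤ) + (i : ℕ)) s) := by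
  rcases s with i | i
  · have := i.isLt
    rw [Sum.elim_inl, vv_small (by omega) (by omega)]
    funext s; rcases s with j | j <;> have := j.isLt <;>
      simp only [bas, Sum.elim_inl, Sum.elim_inr, Pi.single_apply, Sum.inl.injEq, Fin.ext_iff,
        reduceCtorEq] <;> split_ifs <;> first | rfl | contradiction | omega
  · have := i.isLt
    rw [Sum.elim_inr, vv_small (by omega) (by omega)]
    funext s; rcases s with j | j <;> have := j.isLt <;>
      simp only [bas, Sum.elim_inl, Sum.elim_inr, Pi.single_apply, Sum.inr.injEq, Fin.ext_iff,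
        reduceCtorEq] <;> split_ifs <;> first | rfl | contradiction | omega

/-- The shift as a linear substitution. -/
def shiftFun (x : Fin m ⊕ Fin m → F) : Fin m ⊕ Fin m → F :=
  Sum.elim
    (fun i => if (i : ℕ) = 0 then -x (.inr ⟨m - 1, by have := i.isLt; omega⟩)
      else x (.inl ⟨(i : ℕ) - 1, by have := i.isLt; omega⟩))
    (fun i => if (i : ℕ) = 0 then x (.inl ⟨m - 1, by have := i.isLt; omega⟩)
      else x (.inr ⟨(i : ℕ) - 1, by have := i.isLt; omega⟩))

/-- The shift as a linear map. -/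
def shiftLin : (Fin m ⊕ Fin m → F) →ₗ[F] (Fin m ⊕ Fin m → F) where
  toFun := shiftFun
  map_add' x y := by
    funext s; rcases s with i | i <;> simp only [shiftFun, Sum.elim_inl, Sum.elim_inr, Pi.add_apply] <;>
      split_ifs <;> ring
  map_smul' c x := by
    funext s; rcases s with i | i <;>
      simp only [shiftFun, Sum.elim_inl, Sum.elim_inr, Pi.smul_apply, RingHom.id_apply, smul_eq_mul] <;>
      split_ifs <;> ring

theorem B_eq_sum (u v : Fin m ⊕ Fin m → F) :
    B u v = ∑ i : Fin m, (u (.inr i) * v (.inl i) - u (.inl i) * v (.inr i)) := by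
  rw [B, spBilin_apply, Cfsg.sympForm, Matrix.J, dotProduct, Fintype.sum_sum_type]
  simp [Matrix.mulVec, dotProduct, Fintype.sum_sum_type, Matrix.one_apply, Finset.sum_sub_distrib]
  ring

theorem B_shift (u v : Fin m ⊕ Fin m → F) : B (shiftFun u) (shiftFun v) = B u v := by
  rw [B_eq_sum, B_eq_sum]
  rcases m with _ | l
  · simp
  · rw [Fin.sum_univ_succ, Fin.sum_univ_castSucc]
    simp only [shiftFun, Sum.elim_inl, Sum.elim_inr, Fin.val_zero, Fin.val_succ, if_true, Nat.succ_ne_zero,
      if_false, Nat.add_sub_cancel]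
    rw [add_comm]
    congr 1
    change u (.inl (Fin.last l)) * -v (.inr (Fin.last l)) - -u (.inr (Fin.last l)) * v (.inl (Fin.last l)) = _
    ring

/-- The shift `vv k ↦ vv (k+1)`. -/
def W : Sp m F := ⟨LinearMap.toMatrix' shiftLin, (mem_iff_preserves _).2 fun u v => by
  rw [← Matrix.toLin'_apply, ← Matrix.toLin'_apply, Matrix.toLin'_toMatrix', ← spBilin_apply, ← spBilin_apply]
  exact B_shift u v⟩

theorem act_W (x : Fin m ⊕ Fin m → F) : act (W : Sp m F) x = shiftFun x := by
  rw [act, W, ← Matrix.toLin'_apply, Matrix.toLin'_toMatrix']; rfl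

theorem act_W_vv (k : ℤ) (hm : 0 < m) : act (W : Sp m F) (vv k) = vv (k + 1) := by
  have h0 := Int.emod_nonneg k (by omega : (2 * m : ℤ) ≠ 0)
  have h1 := Int.emod_lt_of_pos k (by omega : 0 < (2 * m : ℤ))
  obtain ⟨r, hr⟩ : ∃ r, r = k % (2 * m : ℤ) := ⟨_, rfl⟩
  obtain ⟨t, ht⟩ : ∃ t, t = k / (2 * m : ℤ) := ⟨_, rfl⟩
  have hk : r + 2 * m * t = k := by rw [hr, ht]; exact Int.emod_add_mul_ediv k _
  rw [← hr] at h0 h1
  rw [act, vv, mulVec_smul, ← act, act_W, ← hr, ← ht, vv]
  by_cases hl : r + 1 < 2 * m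
  · have e : (k + 1) / (2 * m : ℤ) = t ∧ (k + 1) % (2 * m : ℤ) = r + 1 :=
      (Int.ediv_emod_unique (by omega)).2 ⟨by rw [← hk]; ring, by omega, by omega⟩
    rw [e.1, e.2]
    congr 1
    funext s; rcases s with i | i <;> have := i.isLt <;>
      simp only [shiftFun, bas, Sum.elim_inl, Sum.elim_inr] <;> split_ifs <;> first | rfl | omega | simp
  · have e : (k + 1) / (2 * m : ℤ) = t + 1 ∧ (k + 1) % (2 * m : ℤ) = 0 :=
      (Int.ediv_emod_unique (by omega)).2 ⟨by rw [← hk, show r = 2 * m - 1 by omega]; ring, le_rfl, by omega⟩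
    rw [e.1, e.2, zpow_add₀ (neg_ne_zero.2 one_ne_zero), zpow_one, mul_smul]
    congr 1
    funext s; rcases s with i | i <;> have := i.isLt <;>
      simp only [shiftFun, bas, Sum.elim_inl, Sum.elim_inr, Pi.smul_apply, smul_eq_mul] <;> split_ifs <;>
      first | rfl | omega | simp

theorem act_Wpow_vv (hm : 0 < m) (a : ℤ) : ∀ k : ℤ, act ((W : Sp m F) ^ a) (vv k) = vv (k + a) := by
  induction a with
  | zero => intro k; rw [zpow_zero, act_one, add_zero]
  | succ n ih =>
    intro k
    rw [_root_.zpow_add, zpow_one, act_mul, act_W_vv k hm, ih, add_assoc, add_comm (1 : ℤ)]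
  | pred n ih =>
    intro k
    rw [show -(n : ℤ) - 1 = -(n : ℤ) + -1 from sub_eq_add_neg _ _, _root_.zpow_add, act_mul,
      _root_.zpow_neg_one]
    have h := act_inv (W : Sp m F) (vv (k - 1))
    rw [act_W_vv _ hm, sub_add_cancel] at h
    rw [h, ih]
    congr 1; ring

theorem B_bas_zero {r : ℤ} (hm : 0 < m) :
    B (bas 0 : Fin m ⊕ Fin m → F) (bas r) = if r = m then -1 else 0 := by
  rw [B_eq_sum, Finset.sum_eq_single (⟨0, hm⟩ : Fin m)]
  · simp only [bas, Sum.elim_inl, Sum.elim_inr]
    split_ifs <;> simp at * <;> omega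
  · intro i _ hi
    have : (i : ℕ) ≠ 0 := fun e => hi (Fin.ext e)
    simp only [bas, Sum.elim_inl, Sum.elim_inr]
    split_ifs <;> first | omega | simp
  · simp

/-- The form only depends on the difference of the indices. -/
theorem B_vv_shift (hm : 0 < m) (a b : ℤ) :
    B (vv a : Fin m ⊕ Fin m → F) (vv b) = B (vv 0 : Fin m ⊕ Fin m → F) (vv (b - a)) := by
  conv_lhs => rw [show a = 0 + a by ring, show b = b - a + a by ring, ← act_Wpow_vv hm, ← act_Wpow_vv hm, B_act]

theorem B_vv_zero {a b : ℤ} (h1 : -(2 * m : ℤ) < b - a) (h2 : b - a < 2 * m) (h3 : b - a ≠ m)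
    (h4 : b - a ≠ -(m : ℤ)) : B (vv a : Fin m ⊕ Fin m → F) (vv b) = 0 := by
  have hm : 0 < m := by omega
  rw [B_vv_shift hm, vv_small le_rfl (by omega)]
  by_cases h : 0 ≤ b - a
  · rw [vv_small h h2, B_bas_zero hm, if_neg h3]
  · rw [show b - a = b - a + 2 * m - 2 * m by ring, vv_sub_period _ hm, vv_small (by omega) (by omega)]
    simp only [B, map_neg]
    change -B _ _ = 0
    rw [B_bas_zero hm, if_neg (by omega), neg_zero]

theorem B_vv_pair (hm : 0 < m) (a : ℤ) : B (vv a : Fin m ⊕ Fin m → F) (vv (a + m)) = -1 := by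
  rw [B_vv_shift hm, add_sub_cancel_left, vv_small le_rfl (by omega), vv_small (by omega) (by omega),
    B_bas_zero hm, if_pos rfl]

theorem B_vv_pair' (hm : 0 < m) (a : ℤ) : B (vv (a + m) : Fin m ⊕ Fin m → F) (vv a) = 1 := by
  rw [B_swap, B_vv_pair hm, neg_neg]

end Cfsg.Agent.SpTwoGen
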