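/-
A subgroup containing the shift, one full long root group and enough short root groups is all of `Sp_{2m}(F)`.
-/
import Mathlib
import Cfsg.Agent.Lib.Classical.SpTwoGen.Basic

set_option autoImplicit false

open Matrix

namespace Cfsg.Agent.SpTwoGen

open Cfsg.Agent.ClassicalSp

variable {m : ℕ} {F : Type*} [Field F] (G : Subgroup (Sp m F))

/-- The long root group of `w` lies in `G`. -/
def FullT (w : Fin m ⊕ Fin m → F) : Prop := ∀ c, T w c ∈ G

/-- The short root groups for the index difference `d` lie in `G`. -/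
def FullE (d : ℤ) : Prop := ∀ (k : ℤ) (c : F), E (vv k : Fin m ⊕ Fin m → F) (vv (k + d)) c ∈ G

variable {G}

theorem FullT.conj {w : Fin m ⊕ Fin m → F} (h : FullT G w) {g : Sp m F} (hg : g ∈ G) : FullT G (act g w) :=
  fun c => conj_T g w c ▸ mul_mem (mul_mem hg (h c)) (inv_mem hg)

theorem fullT_vv (hm : 0 < m) (hW : W ∈ G) {a : ℤ} (h : FullT G (vv a : Fin m ⊕ Fin m → F)) (k : ℤ) :
    FullT G (vv k : Fin m ⊕ Fin m → F) := by
  have := h.conj (zpow_mem hW (k - a))
  rwa [act_Wpow_vv hm, add_sub_cancel] at this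

theorem fullE_of_one (hm : 0 < m) (hW : W ∈ G) {a d : ℤ}
    (h : ∀ c : F, E (vv a : Fin m ⊕ Fin m → F) (vv (a + d)) c ∈ G) : FullE G d := by
  intro k c
  have h2 := mul_mem (mul_mem (zpow_mem hW (k - a)) (h c)) (inv_mem (zpow_mem hW (k - a)))
  rwa [conj_E, act_Wpow_vv hm, act_Wpow_vv hm, add_sub_cancel, show a + d + (k - a) = k + d by ring] at h2

theorem FullE.period (hm : 0 < m) {d : ℤ} (h1 : -(2 * m : ℤ) < d) (h2 : d < 2 * m) (h3 : d ≠ m) (h4 : d ≠ -(m : ℤ))
    (h : FullE G d) (e : ℤ) (he : e = d + 2 * m ∨ e = d - 2 * m) : FullE G e := by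
  intro k c
  have hz : B (vv k : Fin m ⊕ Fin m → F) (vv (k + d)) = 0 :=
    B_vv_zero (by omega) (by omega) (by omega) (by omega)
  have hv : (vv (k + e) : Fin m ⊕ Fin m → F) = (-1 : F) • vv (k + d) := by
    rcases he with rfl | rfl
    · rw [← add_assoc, vv_add_period _ hm, neg_one_smul]
    · rw [← add_sub_assoc, vv_sub_period _ hm, neg_one_smul]
  rw [hv]
  nth_rw 1 [← one_smul F (vv k : Fin m ⊕ Fin m → F)]
  rw [E_smul hz]
  exact h k _

/-- Shift a short root group by half a period, using the long root groups. -/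
theorem FullE.half (hm : 0 < m) (hW : W ∈ G) (hT : ∀ k, FullT G (vv k : Fin m ⊕ Fin m → F)) {d : ℤ} (h0 : 0 < d)
    (h1 : d < m) (h : FullE G d) : FullE G (d + m) := by
  have hmd : B (vv m : Fin m ⊕ Fin m → F) (vv d) = 0 :=
    B_vv_zero (by omega) (by omega) (by omega) (by omega)
  have h0d : B (vv 0 : Fin m ⊕ Fin m → F) (vv d) = 0 :=
    B_vv_zero (by omega) (by omega) (by omega) (by omega)
  have hkey : ∀ k : F, E (vv m : Fin m ⊕ Fin m → F) (vv d) k ∈ G := by
    intro k
    have hm1 : FullT G (vv m + k • vv d : Fin m ⊕ Fin m → F) := by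
      have h2 := (hT m).conj (h 0 k)
      rw [zero_add, act_E h0d] at h2
      have e1 : B (vv m : Fin m ⊕ Fin m → F) (vv 0) = 1 := by
        have := B_vv_pair' (F := F) hm 0; rwa [zero_add] at this
      rw [e1, hmd, one_smul, zero_smul, add_zero] at h2
      exact h2
    have h3 := hm1 1
    rw [T_add_smul hmd, mul_one, mul_one] at h3
    exact (Subgroup.mul_mem_cancel_left G (mul_mem (hT m 1) (hT d _))).1 h3
  have h5 : FullE G (d - m) := fullE_of_one hm hW (a := (m : ℤ)) fun c => by
    rw [show (m : ℤ) + (d - m) = d by ring]; exact hkey c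
  exact h5.period hm (by omega) (by omega) (by omega) (by omega) _ (Or.inl (by ring))

/-- Composition of two short root groups. -/
theorem FullE.comp (hm : 0 < m) (hW : W ∈ G) {d1 d2 : ℤ} (a0 : 0 < d1) (a1 : d1 < 2 * m) (a2 : d1 ≠ m) (b0 : 0 < d2)
    (b1 : d2 < m) (hs : d1 + d2 < 2 * m) (hsm : d1 + d2 ≠ m) (h1 : FullE G d1) (h2 : FullE G d2) :
    FullE G (d1 + d2 - m) := by
  obtain ⟨a, ha⟩ : ∃ a : Fin m ⊕ Fin m → F, a = vv (d1 - m) := ⟨_, rfl⟩
  obtain ⟨b, hb⟩ : ∃ b : Fin m ⊕ Fin m → F, b = vv (d1 + d2 - m) := ⟨_, rfl⟩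
  have hab : B a b = 0 := by rw [ha, hb]; exact B_vv_zero (by omega) (by omega) (by omega) (by omega)
  have h0a : B (vv 0 : Fin m ⊕ Fin m → F) a = 0 := by
    rw [ha]; exact B_vv_zero (by omega) (by omega) (by omega) (by omega)
  have h0b : B (vv 0 : Fin m ⊕ Fin m → F) b = 0 := by
    rw [hb]; exact B_vv_zero (by omega) (by omega) (by omega) (by omega)
  have h0d : B (vv 0 : Fin m ⊕ Fin m → F) (vv d1) = 0 :=
    B_vv_zero (by omega) (by omega) (by omega) (by omega)
  have hdb : B (vv d1 : Fin m ⊕ Fin m → F) b = 0 := by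
    rw [hb]; exact B_vv_zero (by omega) (by omega) (by omega) (by omega)
  have hda : B (vv d1 : Fin m ⊕ Fin m → F) a = 1 := by
    rw [ha]
    have := B_vv_pair' (F := F) hm (d1 - m)
    rwa [sub_add_cancel] at this
  have hmem : ∀ c : F, E a b c ∈ G := by
    intro c
    have := h2 (d1 - m) c
    rwa [← ha, show d1 - m + d2 = d1 + d2 - m by ring, ← hb] at this
  refine fullE_of_one hm hW (a := 0) fun k => ?_
  rw [zero_add, ← hb]
  have h3 := mul_mem (mul_mem (hmem k) (h1 0 1)) (inv_mem (hmem k))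
  rw [zero_add, conj_E, act_E hab, act_E hab, h0a, h0b, hda, hdb, zero_smul, zero_smul, add_zero, smul_zero,
    add_zero, one_smul, add_zero] at h3
  have hz : B (vv 0 : Fin m ⊕ Fin m → F) (k • b) = 0 := by
    simp only [B, map_smul, smul_eq_mul] at h0b ⊢; rw [h0b, mul_zero]
  have hz2 : B (vv d1 : Fin m ⊕ Fin m → F) (k • b) = 0 := by
    simp only [B, map_smul, smul_eq_mul] at hdb ⊢; rw [hdb, mul_zero]
  rw [E_add_right h0d hz hz2] at h3
  have h4 : E (vv 0 : Fin m ⊕ Fin m → F) (vv d1) 1 ∈ G := by have := h1 0 1; rwa [zero_add] at this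
  have h5 := (Subgroup.mul_mem_cancel_left G h4).1 h3
  nth_rw 1 [← one_smul F (vv 0 : Fin m ⊕ Fin m → F)] at h5
  rwa [E_smul h0b, one_mul, mul_one] at h5

/-- All short root groups from the neighbouring one. -/
theorem fullE_all (hm : 2 ≤ m) (hW : W ∈ G) (hT : FullT G (vv 0 : Fin m ⊕ Fin m → F)) (h1 : FullE G 1) :
    ∀ d : ℤ, 0 < d → d < 2 * m → d ≠ m → FullE G d := by
  have hT' := fun k => fullT_vv (F := F) (by omega) hW hT k
  have hlow : ∀ d : ℕ, 0 < d → d < m → FullE G (d : ℤ) := by
    intro d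
    induction d with
    | zero => intro h; omega
    | succ d ih =>
      intro _ hdm
      rcases Nat.eq_zero_or_pos d with rfl | hd
      · simpa using h1
      have h := (ih hd (by omega)).half (by omega) hW hT' (by omega) (by omega)
      have h' := h.comp (by omega) hW (d2 := 1) (by omega) (by omega) (by omega) (by omega) (by omega) (by omega)
        (by omega) h1
      rw [show (d : ℤ) + m + 1 - m = ((d + 1 : ℕ) : ℤ) by push_cast; ring] at h'
      exact h'
  intro d h0 h2 hne
  by_cases hd : d < m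
  · lift d to ℕ using h0.le
    exact hlow d (by omega) (by omega)
  · obtain ⟨e, he⟩ : ∃ e : ℕ, d = (e : ℤ) + m := ⟨(d - m).toNat, by omega⟩
    rw [he]
    exact (hlow e (by omega) (by omega)).half (by omega) hW hT' (by omega) (by omega)

theorem eq_top (hm : 2 ≤ m) (hW : W ∈ G) (hT : FullT G (vv 0 : Fin m ⊕ Fin m → F)) (h1 : FullE G 1) : G = ⊤ := by
  classical
  have hm0 : 0 < m := by omega
  have hT' := fun k => fullT_vv (F := F) hm0 hW hT k
  obtain ⟨ix, hix⟩ : ∃ ix : Fin m ⊕ Fin m → ℤ,
      ix = Sum.elim (fun i : Fin m => ((i : ℕ) : ℤ)) (fun i : Fin m => (m : ℤ) + (i : ℕ)) := ⟨_, rfl⟩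
  have hr : ∀ s, 0 ≤ ix s ∧ ix s < 2 * m := by
    intro s; rcases s with i | i <;> have := i.isLt <;> simp [hix] <;> omega
  have hinj : Function.Injective ix := by
    intro s t h
    rcases s with i | i <;> rcases t with j | j <;> have := i.isLt <;> have := j.isLt <;>
      simp [hix, Fin.ext_iff] at h ⊢ <;> omega
  -- the partner
  obtain ⟨pr, hpr⟩ : ∃ pr : Fin m ⊕ Fin m → Fin m ⊕ Fin m, pr = Sum.swap := ⟨_, rfl⟩
  have hprd : ∀ s, ix (pr s) = ix s + m ∨ ix (pr s) = ix s - m := by
    intro s; rcases s with i | i <;> simp [hix, hpr] <;> omega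
  have hBne : ∀ s, B (vv (ix s) : Fin m ⊕ Fin m → F) (vv (ix (pr s))) ≠ 0 := by
    intro s
    rcases hprd s with e | e <;> rw [e]
    · rw [B_vv_pair hm0]; simp
    · have := B_vv_pair' (F := F) hm0 (ix s - m)
      rw [sub_add_cancel] at this
      rw [this]; exact one_ne_zero
  have hB0 : ∀ s t, t ≠ pr s → B (vv (ix s) : Fin m ⊕ Fin m → F) (vv (ix t)) = 0 := by
    intro s t hne
    obtain ⟨a1, a2⟩ := hr s
    obtain ⟨b1, b2⟩ := hr t
    refine B_vv_zero (by omega) (by omega) (fun e => hne ?_) (fun e => hne ?_) <;>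
    · obtain ⟨c1, c2⟩ := hr (pr s)
      apply hinj
      rcases hprd s with h | h <;> omega
  have hE : ∀ s t, t ≠ s → t ≠ pr s → ∀ c, E (vv (ix s) : Fin m ⊕ Fin m → F) (vv (ix t)) c ∈ G := by
    intro s t hne hne2 c
    obtain ⟨a1, a2⟩ := hr s
    obtain ⟨b1, b2⟩ := hr t
    have hd : ix t - ix s ≠ 0 := fun e => hne (hinj (by omega))
    have hdm : ix t - ix s ≠ m ∧ ix t - ix s ≠ -(m : ℤ) := by
      obtain ⟨c1, c2⟩ := hr (pr s)
      constructor <;> intro e <;> refine hne2 (hinj ?_) <;> rcases hprd s with h | h <;> omega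
    have hfull : FullE G (ix t - ix s) := by
      by_cases hpos : 0 < ix t - ix s
      · exact fullE_all hm hW hT h1 _ hpos (by omega) hdm.1
      · exact (fullE_all hm hW hT h1 (ix t - ix s + 2 * m) (by omega) (by omega) (by omega)).period hm0
          (by omega) (by omega) (by omega) (by omega) _ (Or.inr (by ring))
    have := hfull (ix s) c
    rwa [add_sub_cancel] at this
  have hall : ∀ (S : Finset (Fin m ⊕ Fin m)) (x : Fin m ⊕ Fin m → F), (∀ s, s ∉ S → x s = 0) → FullT G x := by
    intro S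
    induction S using Finset.induction with
    | empty =>
      intro x hx c
      rw [show x = (0 : F) • vv 0 by rw [zero_smul]; funext s; exact hx s (by simp), T_smul]
      exact hT _
    | insert i S hi ih =>
      intro x hx
      obtain ⟨u, hu⟩ : ∃ u, u = Function.update x i 0 := ⟨_, rfl⟩
      have hu0 : ∀ s, s ∉ S → u s = 0 := by
        intro s hs
        by_cases hsi : s = i
        · subst hsi; rw [hu, Function.update_self]
        · rw [hu, Function.update_of_ne hsi]; exact hx s (by simp [hs, hsi])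
      have hxu : x = u + x i • vv (ix i) := by
        rw [hix, ← single_eq_vv]
        funext s
        by_cases hsi : s = i
        · subst hsi; simp [hu]
        · simp [hu, hsi]
      have hFu := ih u hu0
      by_cases hu' : u = 0
      · intro c
        rw [hxu, hu', zero_add, T_smul]
        exact hT' _ _
      by_cases hB : B u (vv (ix i)) = 0
      · obtain ⟨j, hj⟩ := Function.ne_iff.1 hu'
        have hjS : j ∈ S := by by_contra h; exact hj (hu0 j h)
        have hsum : u = ∑ s, u s • (vv (ix s) : Fin m ⊕ Fin m → F) := by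
          funext t
          simp only [hix, ← single_eq_vv]
          simp [Finset.sum_apply, Pi.single_apply]
        have hBu : ∀ t, B u (vv (ix (pr t))) = u t * B (vv (ix t)) (vv (ix (pr t)) : Fin m ⊕ Fin m → F) := by
          intro t
          conv_lhs => rw [hsum]
          simp only [B, map_sum, LinearMap.sum_apply, map_smul, LinearMap.smul_apply, smul_eq_mul]
          refine Finset.sum_eq_single t (fun s _ hs => ?_) (by simp)
          have h0 := hB0 s (pr t) (fun e => hs (by
            have := congrArg pr e; rw [hpr] at this; simpa using this.symm))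
          simp only [B] at h0
          rw [h0, mul_zero]
        have hij : i ≠ j := fun e => hi (e ▸ hjS)
        have hipj : i ≠ pr j := by
          intro e
          rw [e, hBu] at hB
          exact mul_ne_zero hj (hBne j) hB
        have hne : B u (vv (ix (pr j))) ≠ 0 := by rw [hBu]; exact mul_ne_zero hj (hBne j)
        have hab : B (vv (ix (pr j)) : Fin m ⊕ Fin m → F) (vv (ix i)) = 0 :=
          hB0 _ _ (fun e => hij (by rw [e, hpr]; simp))
        have hg := hE (pr j) i hipj (fun e => hij (by rw [e, hpr]; simp))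
          (x i / B u (vv (ix (pr j))))
        have h2 := hFu.conj hg
        rw [act_E hab, hB, zero_smul, add_zero, smul_smul, div_mul_cancel₀ _ hne, ← hxu] at h2
        exact h2
      · have h2 := hFu.conj (hT' (ix i) (x i / B u (vv (ix i))))
        rw [act_T, div_mul_cancel₀ _ hB, ← hxu] at h2
        exact h2
  rw [eq_top_iff, ← closure_transvections, Subgroup.closure_le]
  rintro A ⟨w, c, hA⟩
  have : A = T w c := Subtype.ext hA
  rw [this]
  exact hall Finset.univ w (fun s hs => absurd (Finset.mem_univ s) hs) c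

end Cfsg.Agent.SpTwoGen
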