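/-
Two generators of `Sp_{2m}(2)`, `m ≥ 3`: `T(v₁+v₂) T(v₂)` and the shift.
-/
import Mathlib
import Cfsg.Agent.Lib.Classical.SpTwoGen.Closure

set_option autoImplicit false

open Matrix

namespace Cfsg.Agent.SpTwoGen

open Cfsg.Agent.ClassicalSp

variable {m : ℕ} {F : Type*} [Field F] [CharP F 2]

/-- `E(p,y) T(p)` written with two transvections. -/
def P (p y : Fin m ⊕ Fin m → F) : Sp m F := T (p + y) 1 * T y 1

theorem two_zero : (2 : F) = 0 := CharTwo.two_eq_zero

theorem conj_P (g : Sp m F) (p y : Fin m ⊕ Fin m → F) : g * P p y * g⁻¹ = P (act g p) (act g y) := by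
  rw [P, P, show g * (T (p + y) 1 * T y 1) * g⁻¹ = g * T (p + y) 1 * g⁻¹ * (g * T y 1 * g⁻¹) by group,
    conj_T, conj_T]
  simp only [act, mulVec_add]

theorem act_P {p y : Fin m ⊕ Fin m → F} (h : B p y = 0) (x : Fin m ⊕ Fin m → F) :
    act (P p y) x = x + B x p • p + B x p • y + B x y • p := by
  have h' : B y p = 0 := B_comm_zero h
  rw [P, act_mul, act_T, act_T]
  simp only [B] at h h'
  simp only [B, map_add, LinearMap.add_apply, map_smul, LinearMap.smul_apply, smul_eq_mul,
    (spBilin_isAlt (m := m) (F := F) y : spBilin m F y y = 0), h', mul_zero, add_zero, one_mul]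
  match_scalars <;> first | ring1 | linear_combination (spBilin m F x y) * (two_zero (F := F))

theorem P_eq {p y : Fin m ⊕ Fin m → F} (h : B p y = 0) : P p y = E p y 1 * T p 1 :=
  ext_act fun x => by
    rw [act_P h, act_mul, act_T, act_E h]
    have h' : B p y = 0 := h
    simp only [B] at h'
    simp only [B, map_add, LinearMap.add_apply, map_smul, LinearMap.smul_apply, smul_eq_mul,
      (spBilin_isAlt (m := m) (F := F) p : spBilin m F p p = 0), h', mul_zero, add_zero, one_mul]
    module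

theorem P_mul {p y s : Fin m ⊕ Fin m → F} (h : B p y = 0) (hs : B p s = 0) :
    P p y * P p (y + s) = E p s 1 * T p (B y s) :=
  ext_act fun x => by
    have hys : B p (y + s) = 0 := by simp only [B, map_add] at *; rw [h, hs, add_zero]
    rw [act_mul, act_P hys, act_P h, act_mul, act_T, act_E hs]
    have h' : B y p = 0 := B_comm_zero h
    have hs' : B s p = 0 := B_comm_zero hs
    have e : B s y = -B y s := B_swap y s
    simp only [B] at h h' hs hs' e
    simp only [B, map_add, LinearMap.add_apply, map_smul, LinearMap.smul_apply, smul_eq_mul,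
      (spBilin_isAlt (m := m) (F := F) p : spBilin m F p p = 0),
      (spBilin_isAlt (m := m) (F := F) y : spBilin m F y y = 0), h, h', hs, hs', e, mul_zero, add_zero, zero_add]
    match_scalars <;> first
      | ring1
      | linear_combination (spBilin m F x p + spBilin m F x y) * (two_zero (F := F))
      | linear_combination (spBilin m F x p) * (two_zero (F := F))
      | linear_combination (-(spBilin m F x p) * spBilin m F y s + spBilin m F x p + spBilin m F x y) *
          (two_zero (F := F))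
      | linear_combination (-(spBilin m F x p) * spBilin m F y s) * (two_zero (F := F))

theorem neg_vec (x : Fin m ⊕ Fin m → F) : -x = x := funext fun _ => CharTwo.neg_eq _

theorem P_step {p y c z : Fin m ⊕ Fin m → F} (hpy : B p y = 0) (hcz : B c z = 0) (hpc : B p c = 0)
    (hpz : B p z = 0) {G : Subgroup (Sp m F)} (h1 : P p y ∈ G) (h2 : P c z ∈ G) :
    E p (B y c • c + B y c • z + B y z • c) 1 * T p (B y (B y c • c + B y c • z + B y z • c)) ∈ G := by
  obtain ⟨s, hs⟩ : ∃ s, s = B y c • c + B y c • z + B y z • c := ⟨_, rfl⟩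
  rw [← hs]
  have hps : B p s = 0 := by
    simp only [B] at hpc hpz
    simp only [hs, B, map_add, map_smul, smul_eq_mul, hpc, hpz, mul_zero, add_zero]
  rw [← P_mul hpy hps]
  refine mul_mem h1 ?_
  have h3 := mul_mem (mul_mem h2 h1) (inv_mem h2)
  rw [conj_P, act_P hcz, act_P hcz, hpc, hpz, zero_smul, zero_smul, add_zero, add_zero,
    add_zero, add_assoc, add_assoc, ← add_assoc (B y c • c), ← hs] at h3
  exact h3

theorem big_two (hm : 4 ≤ m) (hF : ∀ x : F, x = 0 ∨ x = 1) :
    Subgroup.closure ({P (vv 1) (vv 2), W} : Set (Sp m F)) = ⊤ := by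
  have hm0 : 0 < m := by omega
  obtain ⟨G, hG⟩ : ∃ G, G = Subgroup.closure ({P (vv 1) (vv 2), W} : Set (Sp m F)) := ⟨_, rfl⟩
  rw [← hG]
  have hW : W ∈ G := by rw [hG]; exact Subgroup.subset_closure (by simp)
  have ha : P (vv 1 : Fin m ⊕ Fin m → F) (vv 2) ∈ G := by rw [hG]; exact Subgroup.subset_closure (by simp)
  have bz : ∀ i j : ℤ, -(2 * m : ℤ) < j - i → j - i < 2 * m → j - i ≠ m → j - i ≠ -(m : ℤ) →
      B (vv i : Fin m ⊕ Fin m → F) (vv j) = 0 := fun i j a b c d => B_vv_zero a b c d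
  have bp : ∀ i : ℤ, B (vv i : Fin m ⊕ Fin m → F) (vv (i + m)) = 1 := fun i => by
    rw [B_vv_pair hm0, CharTwo.neg_eq]
  have bp' : ∀ i : ℤ, B (vv (i + m) : Fin m ⊕ Fin m → F) (vv i) = 1 := fun i => B_vv_pair' hm0 i
  have hA : ∀ k : ℤ, P (vv k : Fin m ⊕ Fin m → F) (vv (k + 1)) ∈ G := by
    intro k
    have := mul_mem (mul_mem (zpow_mem hW (k - 1)) ha) (inv_mem (zpow_mem hW (k - 1)))
    rwa [conj_P, act_Wpow_vv hm0, act_Wpow_vv hm0, add_sub_cancel,
      show (2 : ℤ) + (k - 1) = k + 1 by ring] at this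
  have hD : ∀ k : ℤ, P (vv k : Fin m ⊕ Fin m → F) (vv (k + m + 1) + vv (k + m + 2)) ∈ G := by
    intro k
    have hpy : B (vv k : Fin m ⊕ Fin m → F) (vv (k + 1)) = 0 :=
      bz _ _ (by omega) (by omega) (by omega) (by omega)
    have hcz : B (vv (k + m + 1) : Fin m ⊕ Fin m → F) (vv (k + m + 2)) = 0 :=
      bz _ _ (by omega) (by omega) (by omega) (by omega)
    have hpc : B (vv k : Fin m ⊕ Fin m → F) (vv (k + m + 1)) = 0 :=
      bz _ _ (by omega) (by omega) (by omega) (by omega)
    have hpz : B (vv k : Fin m ⊕ Fin m → F) (vv (k + m + 2)) = 0 :=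
      bz _ _ (by omega) (by omega) (by omega) (by omega)
    have hyc : B (vv (k + 1) : Fin m ⊕ Fin m → F) (vv (k + m + 1)) = 1 := by
      rw [show k + m + 1 = k + 1 + m by ring]; exact bp _
    have hyz : B (vv (k + 1) : Fin m ⊕ Fin m → F) (vv (k + m + 2)) = 0 :=
      bz _ _ (by omega) (by omega) (by omega) (by omega)
    have hc2 := hA (k + m + 1)
    rw [show k + m + 1 + 1 = k + m + 2 by ring] at hc2
    have h := P_step hpy hcz hpc hpz (hA k) hc2
    rw [hyc, hyz, one_smul, one_smul, zero_smul, add_zero] at h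
    have e : B (vv (k + 1) : Fin m ⊕ Fin m → F) (vv (k + m + 1) + vv (k + m + 2)) = 1 := by
      simp only [B] at hyc hyz
      simp only [B, map_add, hyc, hyz, add_zero]
    have e2 : B (vv k : Fin m ⊕ Fin m → F) (vv (k + m + 1) + vv (k + m + 2)) = 0 := by
      simp only [B] at hpc hpz
      simp only [B, map_add, hpc, hpz, add_zero]
    rw [e, ← P_eq e2] at h
    exact h
  have hlast : FullE G ((m : ℤ) - 1) := by
    refine fullE_of_one hm0 hW (a := 0) fun c => ?_
    rw [zero_add]
    have e0 : B (vv 0 : Fin m ⊕ Fin m → F) (vv ((m : ℤ) - 1)) = 0 :=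
      bz _ _ (by omega) (by omega) (by omega) (by omega)
    rcases hF c with rfl | rfl
    · rw [E_zero e0]; exact one_mem _
    have hD0 := hD 0
    rw [zero_add] at hD0
    have hDk := hD ((m : ℤ) - 1)
    rw [show (m : ℤ) - 1 + m + 1 = 0 + 2 * m by ring, show (m : ℤ) - 1 + m + 2 = 1 + 2 * m by ring,
      vv_add_period _ hm0, vv_add_period _ hm0, neg_vec, neg_vec] at hDk
    obtain ⟨y, hy⟩ : ∃ y : Fin m ⊕ Fin m → F, y = vv ((m : ℤ) + 1) + vv ((m : ℤ) + 2) := ⟨_, rfl⟩
    obtain ⟨z, hz⟩ : ∃ z : Fin m ⊕ Fin m → F, z = vv 0 + vv 1 := ⟨_, rfl⟩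
    rw [← hy] at hD0; rw [← hz] at hDk
    have b1 := bz 0 ((m : ℤ) + 1) (by omega) (by omega) (by omega) (by omega)
    have b2 := bz 0 ((m : ℤ) + 2) (by omega) (by omega) (by omega) (by omega)
    have b3 := bz ((m : ℤ) - 1) 0 (by omega) (by omega) (by omega) (by omega)
    have b4 := bz ((m : ℤ) - 1) 1 (by omega) (by omega) (by omega) (by omega)
    have b5 := bz ((m : ℤ) + 1) ((m : ℤ) - 1) (by omega) (by omega) (by omega) (by omega)
    have b6 := bz ((m : ℤ) + 2) ((m : ℤ) - 1) (by omega) (by omega) (by omega) (by omega)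
    have b7 := bz ((m : ℤ) + 1) 0 (by omega) (by omega) (by omega) (by omega)
    have b8 := bz ((m : ℤ) + 2) 0 (by omega) (by omega) (by omega) (by omega)
    have b9 := bz ((m : ℤ) + 2) 1 (by omega) (by omega) (by omega) (by omega)
    have b11 := bz 0 1 (by omega) (by omega) (by omega) (by omega)
    have b10 : B (vv ((m : ℤ) + 1) : Fin m ⊕ Fin m → F) (vv 1) = 1 := by
      rw [add_comm]; exact bp' 1
    simp only [B] at b1 b2 b3 b4 b5 b6 b7 b8 b9 b10 b11
    have hpy : B (vv 0 : Fin m ⊕ Fin m → F) y = 0 := by simp only [hy, B, map_add, b1, b2, add_zero]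
    have hcz : B (vv ((m : ℤ) - 1) : Fin m ⊕ Fin m → F) z = 0 := by simp only [hz, B, map_add, b3, b4, add_zero]
    have hpz : B (vv 0 : Fin m ⊕ Fin m → F) z = 0 := by
      simp only [hz, B, map_add, b11, (spBilin_isAlt (m := m) (F := F) (vv 0) : _ = (0 : F)), add_zero]
    have hyc : B y (vv ((m : ℤ) - 1) : Fin m ⊕ Fin m → F) = 0 := by
      simp only [hy, B, map_add, LinearMap.add_apply, b5, b6, add_zero]
    have hyz : B y z = 1 := by
      simp only [hy, hz, B, map_add, LinearMap.add_apply, b7, b8, b9, b10, add_zero, zero_add]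
    have h := P_step hpy hcz e0 hpz hD0 hDk
    rw [hyc, hyz, zero_smul, zero_smul, zero_add, zero_add, one_smul, hyc, T_zero, mul_one] at h
    exact h
  have hdesc : ∀ j : ℕ, j + 1 < m → FullE G ((m : ℤ) - 1 - j) := by
    intro j
    induction j with
    | zero => intro _; simpa using hlast
    | succ j ih =>
      intro hj
      have h := (ih (by omega)).comp hm0 hW (by omega) (by omega) (by omega) (by omega) (by omega) (by omega)
        (by omega) hlast
      rw [show (m : ℤ) - 1 - j + ((m : ℤ) - 1) - m = (m : ℤ) - 1 - ((j + 1 : ℕ) : ℤ) by push_cast; ring] at h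
      exact h
  have h1 : FullE G 1 := by
    have := hdesc (m - 2) (by omega)
    rwa [show (m : ℤ) - 1 - ((m - 2 : ℕ) : ℤ) = 1 by omega] at this
  have hT : FullT G (vv 1 : Fin m ⊕ Fin m → F) := by
    intro c
    rcases hF c with rfl | rfl
    · rw [T_zero]; exact one_mem _
    have e : B (vv 1 : Fin m ⊕ Fin m → F) (vv 2) = 0 := bz _ _ (by omega) (by omega) (by omega) (by omega)
    have := ha
    rw [P_eq e] at this
    exact (Subgroup.mul_mem_cancel_left G (h1 1 1)).1 this
  exact eq_top (by omega) hW (fullT_vv hm0 hW hT 0) h1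

end Cfsg.Agent.SpTwoGen
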