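/-
Two generators of `Sp_6(2)`.
-/
import Mathlib
import Cfsg.Agent.Lib.Classical.SpTwoGen.Two

set_option autoImplicit false

open Matrix

namespace Cfsg.Agent.SpTwoGen

variable {F : Type*} [Field F] [CharP F 2]

/-- Image positions of the two generators, as matrices over `ZMod 2`. -/
def aM : Matrix (Fin 3 ⊕ Fin 3) (Fin 3 ⊕ Fin 3) (ZMod 2) :=
  of fun i j => if i = j ∨ (i = .inl 1 ∧ (j = .inr 1 ∨ j = .inr 2)) ∨ (i = .inl 2 ∧ j = .inr 1) then 1 else 0

def wM : Matrix (Fin 3 ⊕ Fin 3) (Fin 3 ⊕ Fin 3) (ZMod 2) :=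
  of fun i j => if (i = .inl 0 ∧ j = .inr 2) ∨ (i = .inr 0 ∧ j = .inl 2) ∨ (i = .inl 1 ∧ j = .inl 0) ∨
    (i = .inl 2 ∧ j = .inl 1) ∨ (i = .inr 1 ∧ j = .inr 0) ∨ (i = .inr 2 ∧ j = .inr 1) then 1 else 0

def tM : Matrix (Fin 3 ⊕ Fin 3) (Fin 3 ⊕ Fin 3) (ZMod 2) :=
  of fun i j => if i = j ∨ (i = .inr 2 ∧ j = .inl 2) then 1 else 0

set_option maxRecDepth 100000 in
theorem word_eq : aM * wM ^ 3 * aM * wM ^ 4 * aM * wM ^ 3 * aM * wM ^ 3 * aM * wM ^ 3 * aM * wM ^ 2 * aM *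
    wM * aM * wM ^ 2 * aM = tM := by decide +kernel

theorem six_two (hF : ∀ x : F, x = 0 ∨ x = 1) :
    Subgroup.closure ({P (vv 1) (vv 2), W} : Set (Sp 3 F)) = ⊤ := by
  obtain ⟨G, hG⟩ : ∃ G, G = Subgroup.closure ({P (vv 1) (vv 2), W} : Set (Sp 3 F)) := ⟨_, rfl⟩
  rw [← hG]
  have hW : W ∈ G := by rw [hG]; exact Subgroup.subset_closure (by simp)
  have ha : P (vv 1 : Fin 3 ⊕ Fin 3 → F) (vv 2) ∈ G := by rw [hG]; exact Subgroup.subset_closure (by simp)
  have e12 : B (vv 1 : Fin 3 ⊕ Fin 3 → F) (vv 2) = 0 :=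
    B_vv_zero (by norm_num) (by norm_num) (by norm_num) (by norm_num)
  obtain ⟨f, hf⟩ : ∃ f : ZMod 2 →+* F, f = ZMod.castHom dvd_rfl F := ⟨_, rfl⟩
  have hsub : ∀ y : F, -y = y := CharTwo.neg_eq
  have v1 : (vv 1 : Fin 3 ⊕ Fin 3 → F) = bas 1 := vv_small (by norm_num) (by norm_num)
  have v2 : (vv 2 : Fin 3 ⊕ Fin 3 → F) = bas 2 := vv_small (by norm_num) (by norm_num)
  have v5 : (vv 5 : Fin 3 ⊕ Fin 3 → F) = bas 5 := vv_small (by norm_num) (by norm_num)
  have ea : (P (vv 1 : Fin 3 ⊕ Fin 3 → F) (vv 2)).1 = aM.map f := by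
    refine ext_of_mulVec_single fun j => ?_
    change act _ _ = _
    rw [act_P e12, mulVec_single_one]
    funext i
    simp only [B_eq_sum, v1, v2, Fin.sum_univ_three]
    rcases i with i | i <;> rcases j with j | j <;> fin_cases i <;> fin_cases j <;>
      simp [bas, aM, hsub, Pi.single_apply]
  have ew : (W : Sp 3 F).1 = wM.map f := by
    refine ext_of_mulVec_single fun j => ?_
    change act _ _ = _
    rw [act_W, mulVec_single_one]
    funext i
    rcases i with i | i <;> rcases j with j | j <;> fin_cases i <;> fin_cases j <;>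
      simp [shiftFun, wM, hsub, Pi.single_apply]
  have et : (T (vv 5 : Fin 3 ⊕ Fin 3 → F) 1).1 = tM.map f := by
    refine ext_of_mulVec_single fun j => ?_
    change act _ _ = _
    rw [act_T, mulVec_single_one]
    funext i
    simp only [B_eq_sum, v5, Fin.sum_univ_three]
    rcases i with i | i <;> rcases j with j | j <;> fin_cases i <;> fin_cases j <;>
      simp [bas, tM, hsub, Pi.single_apply]
  obtain ⟨a, hadef⟩ : ∃ a : Sp 3 F, a = P (vv 1) (vv 2) := ⟨_, rfl⟩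
  have hwd : T (vv 5 : Fin 3 ⊕ Fin 3 → F) 1 =
      a * W ^ 3 * a * W ^ 4 * a * W ^ 3 * a * W ^ 3 * a * W ^ 3 * a * W ^ 2 * a * W * a * W ^ 2 * a := by
    refine Subtype.ext ?_
    subst hadef
    rw [et, ← word_eq]
    simp only [Submonoid.coe_mul, SubmonoidClass.coe_pow, ea, ew, ← RingHom.mapMatrix_apply, map_mul, map_pow]
  have hT5 : FullT G (vv 5 : Fin 3 ⊕ Fin 3 → F) := by
    intro c
    rcases hF c with rfl | rfl
    · rw [T_zero]; exact one_mem _
    rw [hwd]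
    rw [← hadef] at ha
    have hw := fun n : ℕ => pow_mem hW n
    exact mul_mem (mul_mem (mul_mem (mul_mem (mul_mem (mul_mem (mul_mem (mul_mem (mul_mem (mul_mem (mul_mem
      (mul_mem (mul_mem (mul_mem (mul_mem (mul_mem ha (hw _)) ha) (hw _)) ha) (hw _)) ha) (hw _)) ha) (hw _)) ha)
      (hw _)) ha) hW) ha) (hw _)) ha
  have hE : FullE G 1 := by
    refine fullE_of_one (by norm_num) hW (a := 1) fun c => ?_
    rw [show (1 : ℤ) + 1 = 2 by norm_num]
    rcases hF c with rfl | rfl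
    · rw [E_zero e12]; exact one_mem _
    have := ha
    rw [P_eq e12] at this
    exact (Subgroup.mul_mem_cancel_right G (fullT_vv (by norm_num) hW hT5 1 1)).1 this
  exact eq_top (by norm_num) hW (fullT_vv (by norm_num) hW hT5 0) hE

end Cfsg.Agent.SpTwoGen
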