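/-
Two generators of `Sp_{2m}(F)`, `|F| ≥ 3`: `h₀·T` and `E·W`.
-/
import Mathlib
import Cfsg.Agent.Lib.Classical.SpTwoGen.Closure

set_option autoImplicit false

open Matrix

namespace Cfsg.Agent.SpTwoGen

open Cfsg.Agent.ClassicalSp

variable {m : ℕ} {F : Type*} [Field F]

/-- The coefficients of the one-dimensional torus. -/
def tcoef (l : F) : Fin m ⊕ Fin m → F :=
  Sum.elim (fun i => if (i : ℕ) = 0 then l else 1) (fun i => if (i : ℕ) = 0 then l⁻¹ else 1)

/-- The one-dimensional torus. -/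
noncomputable def tor (l : F) (hl : l ≠ 0) : Sp m F :=
  ⟨Matrix.diagonal (tcoef l), (mem_iff_preserves _).2 fun u v => by
    rw [← spBilin_apply, ← spBilin_apply, ← B, ← B, B_eq_sum, B_eq_sum]
    refine Finset.sum_congr rfl fun i _ => ?_
    simp only [mulVec_diagonal, tcoef, Sum.elim_inl, Sum.elim_inr]
    split_ifs <;> field_simp⟩

theorem act_tor (l : F) (hl : l ≠ 0) (x : Fin m ⊕ Fin m → F) :
    act (tor l hl) x = fun s => tcoef l s * x s := funext fun s => mulVec_diagonal _ _ s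

theorem act_tor_small (l : F) (hl : l ≠ 0) {j : ℤ} (h0 : 0 ≤ j) (h1 : j < 2 * m) :
    act (tor l hl) (vv j : Fin m ⊕ Fin m → F) =
      (if j = 0 then l else if j = m then l⁻¹ else 1) • vv j := by
  rw [act_tor, vv_small h0 h1]
  funext s
  rcases s with i | i <;> have := i.isLt <;>
    simp only [tcoef, bas, Sum.elim_inl, Sum.elim_inr, Pi.smul_apply, smul_eq_mul] <;>
    split_ifs <;> first | omega | simp

/-- Its translates. -/
noncomputable def torAt (k : ℤ) (l : F) (hl : l ≠ 0) : Sp m F := W ^ k * tor l hl * (W ^ k)⁻¹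

theorem act_torAt (hm : 0 < m) (k : ℤ) (l : F) (hl : l ≠ 0) {j : ℤ} (h0 : 0 ≤ j - k) (h1 : j - k < 2 * m) :
    act (torAt k l hl) (vv j : Fin m ⊕ Fin m → F) =
      (if j = k then l else if j = k + m then l⁻¹ else 1) • vv j := by
  rw [torAt, act_mul, act_mul]
  have e : act ((W : Sp m F) ^ k)⁻¹ (vv j) = vv (j - k) := by
    rw [← _root_.zpow_neg, act_Wpow_vv hm, sub_eq_add_neg]
  rw [e, act_tor_small l hl h0 h1, act, mulVec_smul, ← act, act_Wpow_vv hm, sub_add_cancel]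
  congr 1
  simp only [sub_eq_iff_eq_add, zero_add]
  rw [add_comm (m : ℤ) k]

theorem sq_span [Finite F] (A : AddSubgroup F) (h : ∀ c : F, c ^ 2 ∈ A) (x : F) : x ∈ A := by
  rcases eq_or_ne (ringChar F) 2 with h2 | h2
  · obtain ⟨y, hy⟩ := FiniteField.isSquare_of_char_two h2 x
    rw [hy, ← sq]; exact h y
  · have h20 : (2 : F) ≠ 0 := Ring.two_ne_zero h2
    have : x = ((x + 1) / 2) ^ 2 - ((x - 1) / 2) ^ 2 := by field_simp; ring
    rw [this]; exact sub_mem (h _) (h _)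

theorem torus_gen [Fintype F] (hm : 2 ≤ m) {l : Fˣ} (hl : ∀ x, x ∈ Subgroup.zpowers l) (hl1 : (l : F) ≠ 1) :
    Subgroup.closure ({tor (l : F) l.ne_zero * T (vv 1) 1, E (vv 0) (vv 1) 1 * W} : Set (Sp m F)) = ⊤ := by
  have hm0 : 0 < m := by omega
  obtain ⟨G, hG⟩ : ∃ G, G = Subgroup.closure
      ({tor (l : F) l.ne_zero * T (vv 1) 1, E (vv 0) (vv 1) 1 * W} : Set (Sp m F)) := ⟨_, rfl⟩
  rw [← hG]
  obtain ⟨h, hh⟩ : ∃ h : Sp m F, h = tor (l : F) l.ne_zero := ⟨_, rfl⟩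
  obtain ⟨h1, hh1⟩ : ∃ h1 : Sp m F, h1 = torAt 1 (l : F) l.ne_zero := ⟨_, rfl⟩
  have ha : h * T (vv 1) 1 ∈ G := by rw [hh, hG]; exact Subgroup.subset_closure (by simp)
  have hb : E (vv 0) (vv 1) 1 * W ∈ G := by rw [hG]; exact Subgroup.subset_closure (by simp)
  have hfix : act h (vv 1 : Fin m ⊕ Fin m → F) = vv 1 := by
    rw [hh, act_tor_small _ _ (by omega) (by omega), if_neg (by omega), if_neg (by omega), one_smul]
  have hcom : Commute h (T (vv 1) 1) := by
    have := conj_T h (vv 1) 1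
    rw [hfix] at this
    rw [commute_iff_eq]
    calc h * T (vv 1) 1 = h * T (vv 1) 1 * h⁻¹ * h := by group
      _ = T (vv 1) 1 * h := by rw [this]
  -- orders
  have hpow : h ^ (Fintype.card F - 1) = 1 := by
    refine Subtype.ext ?_
    rw [hh, SubmonoidClass.coe_pow, tor, diagonal_pow, OneMemClass.coe_one, ← diagonal_one]
    congr 1
    funext s
    have e : (l : F) ^ (Fintype.card F - 1) = 1 := FiniteField.pow_card_sub_one_eq_one _ l.ne_zero
    rcases s with i | i <;> simp only [Pi.pow_apply, tcoef, Sum.elim_inl, Sum.elim_inr] <;> split_ifs <;>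
      simp [e]
  have hTpow : ∀ n : ℕ, (T (vv 1 : Fin m ⊕ Fin m → F) 1) ^ n = T (vv 1) (n : F) := by
    intro n
    induction n with
    | zero => rw [pow_zero, Nat.cast_zero, T_zero]
    | succ n ih => rw [pow_succ, ih, T_add, Nat.cast_succ]
  have hT1 : T (vv 1 : Fin m ⊕ Fin m → F) 1 ∈ G := by
    have h3 := pow_mem ha (Fintype.card F - 1)
    rw [hcom.mul_pow, hpow, one_mul, hTpow, Nat.cast_sub (Fintype.card_pos), FiniteField.cast_card_eq_zero,
      zero_sub, Nat.cast_one, T_neg] at h3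
    exact inv_mem_iff.1 h3
  have hmh : h ∈ G := (Subgroup.mul_mem_cancel_right G hT1).1 ha
  have hbh : h1 = W * h * W⁻¹ := by rw [hh1, hh, torAt, zpow_one]
  have e01 : B (vv 0 : Fin m ⊕ Fin m → F) (vv 1) = 0 :=
    B_vv_zero (by omega) (by omega) (by omega) (by omega)
  have ha0 : act h (vv 0 : Fin m ⊕ Fin m → F) = (l : F) • vv 0 := by
    rw [hh, act_tor_small _ _ le_rfl (by omega), if_pos rfl]
  have a11 : act h1 (vv 1 : Fin m ⊕ Fin m → F) = (l : F) • vv 1 := by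
    rw [hh1, act_torAt hm0 _ _ _ (by omega) (by omega), if_pos rfl]
  have a10 : act h1 (vv 0 : Fin m ⊕ Fin m → F) = vv 0 := by
    have e : (vv 0 : Fin m ⊕ Fin m → F) = -vv (2 * m) := by
      have := vv_add_period (F := F) 0 hm0
      rw [zero_add] at this; rw [this, neg_neg]
    rw [e, act, mulVec_neg, ← act, hh1, act_torAt hm0 _ _ _ (by omega) (by omega), if_neg (by omega),
      if_neg (by omega), one_smul]
  have a1h : act h1 (act h (vv 1) : Fin m ⊕ Fin m → F) = (l : F) • vv 1 := by rw [hfix, a11]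
  -- scalings
  have hsc : ∀ c : F, h * E (vv 0) (vv 1) c * h⁻¹ = E (vv 0) (vv 1) ((l : F) * c) := by
    intro c; rw [conj_E, ha0, hfix]
    nth_rw 1 [← one_smul F (vv 1 : Fin m ⊕ Fin m → F)]
    rw [E_smul e01, mul_one]
  have hsc1 : ∀ c : F, h1 * E (vv 0) (vv 1) c * h1⁻¹ = E (vv 0) (vv 1) ((l : F) * c) := by
    intro c; rw [conj_E, a10, a11]
    nth_rw 1 [← one_smul F (vv 0 : Fin m ⊕ Fin m → F)]
    rw [E_smul e01, one_mul]
  have hhh1 : h * h1 * h⁻¹ = h1 := by
    have hev : ∀ s : Fin m ⊕ Fin m, ∃ α β : F,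
        act h (Pi.single s 1) = α • Pi.single s 1 ∧ act h1 (Pi.single s 1) = β • Pi.single s 1 := by
      intro s
      obtain ⟨j, hj, hj0, hj1⟩ : ∃ j : ℤ, (Pi.single s 1 : Fin m ⊕ Fin m → F) = vv j ∧ 0 ≤ j ∧ j < 2 * m := by
        refine ⟨_, single_eq_vv s, ?_⟩
        rcases s with i | i <;> have := i.isLt <;> simp only [Sum.elim_inl, Sum.elim_inr] <;> omega
      rw [hj]
      refine ⟨if j = 0 then (l : F) else if j = m then (l : F)⁻¹ else 1, ?_⟩
      by_cases hz : j = 0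
      · exact ⟨1, by rw [hh, act_tor_small _ _ hj0 hj1], by rw [hz, a10, one_smul]⟩
      · exact ⟨_, by rw [hh, act_tor_small _ _ hj0 hj1],
          by rw [hh1, act_torAt hm0 _ _ _ (by omega) (by omega)]⟩
    have hc : Commute h h1 := Subtype.ext (ext_of_mulVec_single fun s => by
      obtain ⟨α, β, hα, hβ⟩ := hev s
      change act (h * h1) (Pi.single s 1) = act (h1 * h) (Pi.single s 1)
      rw [act_mul, act_mul, hα, hβ, act, mulVec_smul, ← act, hα, act, mulVec_smul, ← act, hβ, smul_comm])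
    rw [hc.eq, mul_inv_cancel_right]
  have hH : E (vv 0) (vv 1) (1 - (l : F)) * h1 ∈ G := by
    have := mul_mem (mul_mem hb hmh) (inv_mem hb)
    have e : E (vv 0) (vv 1) 1 * W * h * (E (vv 0) (vv 1) 1 * W)⁻¹ =
        E (vv 0) (vv 1) 1 * (h1 * (E (vv 0) (vv 1) 1)⁻¹ * h1⁻¹) * h1 := by rw [hbh]; group
    rw [e, ← E_neg e01, hsc1, E_add e01, mul_neg, mul_one, ← sub_eq_add_neg] at this
    exact this
  obtain ⟨c0, hc0, hc00⟩ : ∃ c0 : F, E (vv 0 : Fin m ⊕ Fin m → F) (vv 1) c0 ∈ G ∧ c0 ≠ 0 := by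
    refine ⟨((l : F) - 1) * (1 - l), ?_, mul_ne_zero (sub_ne_zero.2 hl1) (sub_ne_zero.2 (Ne.symm hl1))⟩
    have h3 := mul_mem (mul_mem (mul_mem hmh hH) (inv_mem hmh)) (inv_mem hH)
    have e : h * (E (vv 0) (vv 1) (1 - (l : F)) * h1) * h⁻¹ * (E (vv 0) (vv 1) (1 - (l : F)) * h1)⁻¹ =
        (h * E (vv 0) (vv 1) (1 - (l : F)) * h⁻¹) * (h * h1 * h⁻¹) * h1⁻¹ *
          (E (vv 0) (vv 1) (1 - (l : F)))⁻¹ := by group
    rw [e, hhh1, hsc, mul_inv_cancel_right, ← E_neg e01, E_add e01] at h3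
    convert h3 using 2
    ring
  have hpw : ∀ k : ℕ, E (vv 0 : Fin m ⊕ Fin m → F) (vv 1) ((l : F) ^ k * c0) ∈ G := by
    intro k
    induction k with
    | zero => rwa [pow_zero, one_mul]
    | succ k ih =>
      have := mul_mem (mul_mem hmh ih) (inv_mem hmh)
      rwa [hsc, ← mul_assoc, ← pow_succ'] at this
  have hgen : ∀ x : F, x ≠ 0 → ∃ k : ℕ, (l : F) ^ k = x := by
    intro x hx
    obtain ⟨k, hk⟩ := (IsOfFinOrder.mem_powers_iff_mem_zpowers (isOfFinOrder_of_finite l)).2 (hl (Units.mk0 x hx))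
    refine ⟨k, ?_⟩
    have := congrArg Units.val hk
    simpa using this
  have hE : ∀ c : F, E (vv 0 : Fin m ⊕ Fin m → F) (vv 1) c ∈ G := by
    intro c
    by_cases hc : c = 0
    · rw [hc, E_zero e01]; exact one_mem _
    obtain ⟨k, hk⟩ := hgen (c / c0) (div_ne_zero hc hc00)
    have := hpw k
    rwa [hk, div_mul_cancel₀ _ hc00] at this
  have hWm : W ∈ G := (Subgroup.mul_mem_cancel_left G (hE 1)).1 hb
  have hm1 : h1 ∈ G := by rw [hbh]; exact mul_mem (mul_mem hWm hmh) (inv_mem hWm)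
  have hTfull : FullT G (vv 1 : Fin m ⊕ Fin m → F) := by
    have hp : ∀ k : ℕ, T (vv 1 : Fin m ⊕ Fin m → F) (((l : F) ^ k) ^ 2) ∈ G := by
      intro k
      induction k with
      | zero => rwa [pow_zero, one_pow]
      | succ k ih =>
        have := mul_mem (mul_mem hm1 ih) (inv_mem hm1)
        rwa [conj_T, a11, T_smul, ← mul_pow, ← pow_succ'] at this
    let A : AddSubgroup F :=
      { carrier := {c | T (vv 1 : Fin m ⊕ Fin m → F) c ∈ G}
        zero_mem' := by simp only [Set.mem_setOf_eq, T_zero]; exact one_mem _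
        add_mem' := fun {a b} ha hb => by simp only [Set.mem_setOf_eq] at *; rw [← T_add]; exact mul_mem ha hb
        neg_mem' := fun {a} ha => by simp only [Set.mem_setOf_eq] at *; rw [T_neg]; exact inv_mem ha }
    intro c
    refine sq_span A (fun d => ?_) c
    by_cases hd : d = 0
    · rw [hd, zero_pow two_ne_zero]; exact A.zero_mem
    obtain ⟨k, hk⟩ := hgen d hd
    rw [← hk]; exact hp k
  exact eq_top hm hWm (fullT_vv hm0 hWm hTfull 0)
    (fullE_of_one hm0 hWm (a := 0) (by simpa using hE))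

end Cfsg.Agent.SpTwoGen
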